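import Cfsg.Prelude.Def_SevenCases
import Cfsg.Prelude.Def_KGroupFacts
import Cfsg.Agent.Lib.Solv.Component
import Cfsg.Agent.Lib.Solv.Kulakoff
import Cfsg.Agent.Lib.Char.AltStem
import Cfsg.Agent.Lib.Lead.KnownSimpleCongr

/-!
# Quotients of quasisimple groups, transport of the families `C_p`, `T_p`, and bounds on centres
-/

set_option autoImplicit false
set_option linter.unusedSectionVars false
set_option linter.style.haveILetI false

namespace Cfsg.Agent.Solv.CpQuot

open Cfsg
open Cfsg.Agent.KnownCongr (nonempty_congr_left)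

universe u v

variable {A B : Type*} [Group A] [Group B]

/-- An isomorphism carries the centre onto the centre. -/
theorem center_map (e : A ≃* B) : (Subgroup.center A).map e.toMonoidHom = Subgroup.center B := by
  ext b
  simp only [Subgroup.mem_map, Subgroup.mem_center_iff, MulEquiv.coe_toMonoidHom]
  constructor
  · rintro ⟨a, ha, rfl⟩ g
    obtain ⟨g, rfl⟩ := e.surjective g
    rw [← map_mul, ← map_mul, ha g]
  · intro hb
    exact ⟨e.symm b, fun g => e.injective (by simpa using hb (e g)), e.apply_symm_apply b⟩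

theorem nonempty_centralQuotient (e : A ≃* B) :
    Nonempty ((A ⧸ Subgroup.center A) ≃* (B ⧸ Subgroup.center B)) :=
  ⟨QuotientGroup.congr _ _ e (center_map e)⟩

theorem card_center_congr (e : A ≃* B) : Nat.card (Subgroup.center A) = Nat.card (Subgroup.center B) :=
  Nat.card_congr (Subgroup.centerCongr e).toEquiv

theorem isCpSimple_congr (p : ℕ) (e : A ≃* B) : IsCpSimple p A ↔ IsCpSimple p B := by
  simp only [IsCpSimple, IsChevSimple, IsLieTypeChar, IsPSLChar, IsPSpChar, IsPSUChar, IsPOmegaOddChar,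
    IsPOmegaPlusChar, IsPOmegaMinusChar, IsExceptionalChevChar, IsTwistedE6D4Char, IsCTwoListed,
    IsCThreeListed, IsCFiveListed, Lie.IsoSuzuki, Lie.Iso2F4, Lie.IsoRee, Lie.IsoTits,
    Spor.IsoM11, Spor.IsoM12, Spor.IsoM22, Spor.IsoM23, Spor.IsoM24, Spor.IsoJ2, Spor.IsoJ3,
    Spor.IsoJ4, Spor.IsoCo1, Spor.IsoCo2, Spor.IsoCo3, Spor.IsoMcL, Spor.IsoHS, Spor.IsoSuz, Spor.IsoHe,
    Spor.IsoRu, Spor.IsoON, Spor.IsoLy, Spor.IsoFi22, Spor.IsoFi23, Spor.IsoFi24', Spor.IsoHN, Spor.IsoTh,
    Spor.IsoB, Spor.IsoM, nonempty_congr_left e]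

theorem order_four_congr (e : A ≃* B) (h : ∃ z ∈ Subgroup.center A, orderOf z = 4) :
    ∃ z ∈ Subgroup.center B, orderOf z = 4 := by
  obtain ⟨z, hz, h4⟩ := h
  exact ⟨e z, center_map e ▸ ⟨z, hz, rfl⟩, by rw [← h4]; exact orderOf_injective e.toMonoidHom e.injective z⟩

theorem order_four_congr_iff (e : A ≃* B) :
    (∃ z ∈ Subgroup.center A, orderOf z = 4) ↔ ∃ z ∈ Subgroup.center B, orderOf z = 4 :=
  ⟨order_four_congr e, order_four_congr e.symm⟩

theorem isCpException_congr (p : ℕ) (e : A ≃* B) : IsCpException p A ↔ IsCpException p B := by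
  obtain ⟨q⟩ := nonempty_centralQuotient e
  simp only [IsCpException, Spor.IsoON, card_center_congr e, order_four_congr_iff e,
    nonempty_congr_left e, nonempty_congr_left q]

theorem isQuasisimple_congr (e : A ≃* B) (h : IsQuasisimple A) : IsQuasisimple B := by
  obtain ⟨q⟩ := nonempty_centralQuotient e
  haveI := h.1
  haveI := h.2
  exact ⟨Group.IsPerfect.ofSurjective (f := e.toMonoidHom) e.surjective,
    q.symm.isSimpleGroup⟩

theorem isQuasisimple_congr_iff (e : A ≃* B) : IsQuasisimple A ↔ IsQuasisimple B :=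
  ⟨isQuasisimple_congr e, isQuasisimple_congr e.symm⟩

theorem isPGroup_center_congr (p : ℕ) (e : A ≃* B) :
    IsPGroup p ↥(Subgroup.center A) ↔ IsPGroup p ↥(Subgroup.center B) :=
  ⟨fun h => h.of_equiv (Subgroup.centerCongr e), fun h => h.of_equiv (Subgroup.centerCongr e).symm⟩

theorem inC_congr (p : ℕ) (e : A ≃* B) : InC p A ↔ InC p B := by
  obtain ⟨q⟩ := nonempty_centralQuotient e
  simp only [InC, isQuasisimple_congr_iff e, isPGroup_center_congr p e, isCpSimple_congr p q,
    isCpException_congr p e]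

theorem pRankLE_congr {p k : ℕ} (e : A ≃* B) (h : PRankLE p k A) : PRankLE p k B := by
  intro S hc hp
  have hS := h (S.map e.symm.toMonoidHom) (haveI := hc; Subgroup.map_isMulCommutative S _) (by
    rintro _ ⟨s, hs, rfl⟩; rw [← map_pow, hp s hs, map_one])
  rwa [Subgroup.card_map_of_injective e.symm.injective] at hS

theorem pRankAtLeast_congr {p k : ℕ} (e : A ≃* B) (h : PRankAtLeast p k A) : PRankAtLeast p k B := by
  obtain ⟨S, hc, hp, hS⟩ := h
  refine ⟨S.map e.toMonoidHom, haveI := hc; Subgroup.map_isMulCommutative S _, ?_,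
    (Subgroup.card_map_of_injective (f := e.toMonoidHom) e.injective).symm ▸ hS⟩
  rintro _ ⟨s, hs, rfl⟩
  rw [← map_pow, hp s hs, map_one]

theorem inT_congr (p : ℕ) (e : A ≃* B) : InT p A ↔ InT p B := by
  obtain ⟨q⟩ := nonempty_centralQuotient e
  have h1 : PRankLE p 1 A ↔ PRankLE p 1 B := ⟨pRankLE_congr e, pRankLE_congr e.symm⟩
  have h2 : PRankAtLeast p 1 A ↔ PRankAtLeast p 1 B := ⟨pRankAtLeast_congr e, pRankAtLeast_congr e.symm⟩
  simp only [InT, isQuasisimple_congr_iff e, isPGroup_center_congr p e, KnownCongr.isKnownSimple'_congr q,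
    inC_congr p e, Spor.IsoFi22, Spor.IsoM12, Spor.IsoM22, Spor.IsoJ2, card_center_congr e,
    order_four_congr_iff e, h1, h2, nonempty_congr_left e, nonempty_congr_left q]

/-! ### The quotient by a normal subgroup -/

variable {K : Type u} [Group K] {N : Subgroup K} [N.Normal]

theorem le_center (hK : IsQuasisimple K) (hN : N ≠ ⊤) : N ≤ Subgroup.center K :=
  (qs_normal_le_center_or_top hK N).resolve_left hN

theorem quotient_perfect (hK : IsQuasisimple K) : Group.IsPerfect (K ⧸ N) :=
  haveI := hK.1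
  Group.IsPerfect.ofSurjective (f := QuotientGroup.mk' N) (QuotientGroup.mk'_surjective N)

theorem center_comap (hK : IsQuasisimple K) (hN : N ≠ ⊤) :
    (Subgroup.center (K ⧸ N)).comap (QuotientGroup.mk' N) = Subgroup.center K := by
  refine le_antisymm ((qs_normal_le_center_or_top hK _).resolve_left fun htop => ?_) fun z hz => ?_
  · haveI := quotient_perfect (N := N) hK
    have hall : ∀ a b : K ⧸ N, a * b = b * a := by
      intro a b
      obtain ⟨b, rfl⟩ := QuotientGroup.mk'_surjective N b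
      have hb : b ∈ (Subgroup.center (K ⧸ N)).comap (QuotientGroup.mk' N) := htop ▸ Subgroup.mem_top b
      exact Subgroup.mem_center_iff.1 hb a
    refine hN (eq_top_iff.2 fun a _ => (QuotientGroup.eq_one_iff a).1 ?_)
    have h : commutator (K ⧸ N) = ⊥ := by
      rw [commutator_def, Subgroup.commutator_eq_bot_iff_le_centralizer]
      exact fun x _ => Subgroup.mem_centralizer_iff.2 fun y _ => hall y x
    rw [← Subgroup.mem_bot, ← h, Group.IsPerfect.commutator_eq_top]
    exact Subgroup.mem_top _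
  · rw [Subgroup.mem_comap, Subgroup.mem_center_iff]
    intro q
    induction q using QuotientGroup.induction_on with | H y =>
    rw [QuotientGroup.mk'_apply, ← QuotientGroup.mk_mul, ← QuotientGroup.mk_mul, Subgroup.mem_center_iff.1 hz y]

/-- The centre quotient is unchanged. -/
theorem nonempty_centralQuotient_quotient (hK : IsQuasisimple K) (hN : N ≠ ⊤) :
    Nonempty ((K ⧸ Subgroup.center K) ≃* ((K ⧸ N) ⧸ Subgroup.center (K ⧸ N))) := by
  have h : (Subgroup.center K).map (QuotientGroup.mk' N) = Subgroup.center (K ⧸ N) := by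
    rw [← center_comap hK hN, Subgroup.map_comap_eq_self_of_surjective (QuotientGroup.mk'_surjective N)]
  exact ⟨((QuotientGroup.quotientQuotientEquivQuotient N (Subgroup.center K) (le_center hK hN)).symm).trans
    (QuotientGroup.quotientMulEquivOfEq h)⟩

theorem quasisimple_quotient (hK : IsQuasisimple K) (hN : N ≠ ⊤) : IsQuasisimple (K ⧸ N) := by
  obtain ⟨q⟩ := nonempty_centralQuotient_quotient hK hN
  haveI := hK.2
  exact ⟨quotient_perfect hK, q.symm.isSimpleGroup⟩

theorem isPGroup_center_quotient {p : ℕ} (hK : IsQuasisimple K) (hp : IsPGroup p ↥(Subgroup.center K))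
    (hN : N ≠ ⊤) : IsPGroup p ↥(Subgroup.center (K ⧸ N)) := by
  rintro ⟨q, hq⟩
  obtain ⟨z, rfl⟩ := QuotientGroup.mk'_surjective N q
  have hz : z ∈ Subgroup.center K := by rw [← center_comap hK hN]; exact hq
  obtain ⟨k, hk⟩ := hp ⟨z, hz⟩
  refine ⟨k, Subtype.ext ?_⟩
  show (QuotientGroup.mk' N z) ^ p ^ k = 1
  have hk' : z ^ p ^ k = 1 := congrArg Subtype.val hk
  rw [← map_pow, hk', map_one]

variable [Finite K]

theorem card_center_quotient (hK : IsQuasisimple K) (hN : N ≠ ⊤) :
    Nat.card (Subgroup.center K) = Nat.card N * Nat.card (Subgroup.center (K ⧸ N)) := by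
  have h : (Subgroup.center K).map (QuotientGroup.mk' N) = Subgroup.center (K ⧸ N) := by
    rw [← center_comap hK hN, Subgroup.map_comap_eq_self_of_surjective (QuotientGroup.mk'_surjective N)]
  have hle := le_center hK hN
  have h1 := (N.subgroupOf (Subgroup.center K)).card_mul_index
  rw [Nat.card_congr (Subgroup.subgroupOfEquivOfLe hle).toEquiv] at h1
  have h2 : (N.subgroupOf (Subgroup.center K)).index = Nat.card (Subgroup.center (K ⧸ N)) := by
    have h3 := Subgroup.relIndex_ker (f := QuotientGroup.mk' N) (K := Subgroup.center K)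
    rw [QuotientGroup.ker_mk', h] at h3
    exact h3
  rw [h2] at h1
  exact h1.symm

/-- A subgroup is trivial when the centre of the quotient is as large as that of the group can be. -/
theorem eq_bot_of_card (hK : IsQuasisimple K) (hN : N ≠ ⊤)
    (h : Nat.card (Subgroup.center K) ≤ Nat.card (Subgroup.center (K ⧸ N))) : N = ⊥ := by
  rw [card_center_quotient hK hN] at h
  have h1 : 0 < Nat.card (Subgroup.center (K ⧸ N)) := Nat.card_pos
  have h2 : 0 < Nat.card N := Nat.card_pos
  exact Subgroup.card_eq_one.1 (by nlinarith)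

theorem order_four_lift (hK : IsQuasisimple K) (hN : N ≠ ⊤)
    (h : ∃ z ∈ Subgroup.center (K ⧸ N), orderOf z = 4) : ∃ z ∈ Subgroup.center K, orderOf z = 4 := by
  obtain ⟨z, hz, h4⟩ := h
  obtain ⟨y, rfl⟩ := QuotientGroup.mk'_surjective N z
  have hy : y ∈ Subgroup.center K := by rw [← center_comap hK hN]; exact hz
  obtain ⟨m, hm⟩ : 4 ∣ orderOf y := h4 ▸ orderOf_map_dvd (QuotientGroup.mk' N) y
  refine ⟨y ^ m, (Subgroup.center K).pow_mem hy m, ?_⟩
  have hm0 : m ≠ 0 := fun h0 => by rw [h0, mul_zero] at hm; exact (orderOf_pos y).ne' hm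
  rw [orderOf_pow' y hm0, hm, Nat.gcd_eq_right (dvd_mul_left m 4), Nat.mul_div_cancel _ (Nat.pos_of_ne_zero hm0)]

/-! ### Bounds on the centre -/

omit [N.Normal] in
/-- The centre of a perfect cover divides the multiplier. -/
theorem card_center_dvd (hK : IsQuasisimple K) {S : Type} [Group S] (e : (K ⧸ Subgroup.center K) ≃* S)
    {M : Type*} [CommGroup M] (h : HasSchurMultiplier S M) :
    Nat.card (Subgroup.center K) ∣ Nat.card M := by
  haveI := hK.1
  obtain ⟨σ, hσ⟩ : ∃ σ : Shrink.{0} K →* S, σ =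
      e.toMonoidHom.comp ((QuotientGroup.mk' (Subgroup.center K)).comp (Shrink.mulEquiv : Shrink.{0} K ≃* K).toMonoidHom) :=
    ⟨_, rfl⟩
  haveI : Finite (Shrink.{0} K) := Finite.of_equiv _ (equivShrink.{0} K)
  have hker : σ.ker = (Subgroup.center K).map (Shrink.mulEquiv : Shrink.{0} K ≃* K).symm.toMonoidHom := by
    ext x
    rw [hσ, Subgroup.mem_map_equiv]
    simp
    constructor
    · rintro ⟨y, hy, rfl⟩
      simpa using hy
    · intro hx
      exact ⟨_, hx, MulEquiv.symm_apply_apply _ _⟩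
  haveI : Group.IsPerfect (Shrink.{0} K) :=
    Group.IsPerfect.ofSurjective (f := (Shrink.mulEquiv : Shrink.{0} K ≃* K).symm.toMonoidHom)
      (MulEquiv.surjective _)
  have hst : IsStemExtension σ := by
    refine ⟨hσ ▸ e.surjective.comp ((QuotientGroup.mk'_surjective _).comp (MulEquiv.surjective _)), ?_, ?_⟩
    · rw [hker, center_map]
    · rw [Group.IsPerfect.commutator_eq_top]; exact le_top
  obtain ⟨π, hπ⟩ := h.2 (Shrink.{0} K) σ hst
  have hcard : Nat.card (Subgroup.center K) = Nat.card σ.ker := by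
    rw [hker, Subgroup.card_map_of_injective (MulEquiv.injective _)]
  rw [hcard]
  exact Subgroup.card_dvd_of_surjective π hπ

omit [N.Normal] in
/-- A cover of an alternating group of degree five or at least eight. -/
theorem card_center_alt (hK : IsQuasisimple K) {n : ℕ} (h5 : 5 ≤ n) (hn : n ≤ 5 ∨ 8 ≤ n)
    (e : (K ⧸ Subgroup.center K) ≃* ↥(alternatingGroup (Fin n))) : Nat.card (Subgroup.center K) ≤ 2 := by
  haveI := hK.1
  obtain ⟨π, hπ⟩ : ∃ π : K →* Equiv.Perm (Fin n),
      π = (alternatingGroup (Fin n)).subtype.comp (e.toMonoidHom.comp (QuotientGroup.mk' (Subgroup.center K))) :=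
    ⟨_, rfl⟩
  have hker : π.ker = Subgroup.center K := by
    ext x
    rw [hπ]
    simp
  have hr : π.range = alternatingGroup (Fin n) := by
    rw [hπ, MonoidHom.range_comp, MonoidHom.range_eq_top.2 (e.surjective.comp (QuotientGroup.mk'_surjective _)),
      ← MonoidHom.range_eq_map, Subgroup.range_subtype]
  rw [← hker]
  exact Cfsg.Agent.Char.stem_alt_kernel_le_two π h5 hn hr hker.le
    (Group.IsPerfect.commutator_eq_top (G := K) ▸ le_top)

omit [N.Normal] in
/-- In `p`-rank one, `p` odd, a perfect group has no central `p`-element. -/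
theorem center_eq_bot_of_rank_one {p : ℕ} [Fact p.Prime] (hK : IsQuasisimple K) (hp2 : p ≠ 2)
    (hp : IsPGroup p ↥(Subgroup.center K)) (h : PRankLE p 1 K) : Subgroup.center K = ⊥ := by
  haveI := hK.1
  obtain ⟨P, hP⟩ := hp.exists_le_sylow
  have hcyc : IsCyclic (P : Subgroup K) := by
    by_contra hnc
    obtain ⟨E, -, hEe, hEc⟩ := Solv.exists_normal_elementary_sq hp2 P.isPGroup' hnc
    have := h (E.map (P : Subgroup K).subtype) (haveI := hEe.1; Subgroup.map_isMulCommutative E _) (by
      rintro _ ⟨x, hx, rfl⟩; rw [← map_pow, hEe.2 x hx, map_one])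
    rw [Subgroup.card_map_of_injective (P : Subgroup K).subtype_injective, hEc] at this
    have := (Fact.out : p.Prime).one_lt
    nlinarith
  have hcomm : IsMulCommutative ↥(P : Subgroup K) := inferInstance
  refine (Subgroup.eq_bot_iff_forall _).2 fun z hz => ?_
  have h1 := Cfsg.Agent.Char.transfer_central_pow (P : Subgroup K) hcomm hz
    (Group.IsPerfect.commutator_eq_top (G := K) ▸ Subgroup.mem_top z) (hP hz)
  obtain ⟨k, hk⟩ := hp ⟨z, hz⟩
  have hk' : z ^ p ^ k = 1 := congrArg Subtype.val hk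
  have hdvd := Nat.dvd_gcd (orderOf_dvd_of_pow_eq_one hk') (orderOf_dvd_of_pow_eq_one h1)
  rw [((((Fact.out : p.Prime).coprime_iff_not_dvd).2 P.not_dvd_index).pow_left k), Nat.dvd_one] at hdvd
  exact orderOf_eq_one_iff.1 hdvd

end Cfsg.Agent.Solv.CpQuot
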